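import Mathlib.Algebra.Category.ModuleCat.Sheaf.Abelian
import Mathlib.Algebra.Category.ModuleCat.Sheaf.Colimits
import Mathlib.Algebra.Category.ModuleCat.Sheaf.Limits
import Mathlib.Algebra.Category.ModuleCat.Presheaf.Generator
import Mathlib.Algebra.Category.ModuleCat.Presheaf.Colimits
import Mathlib.Algebra.Category.ModuleCat.Presheaf.Limits
import Mathlib.Algebra.Category.Grp.AB
import Mathlib.Algebra.Category.Grp.FilteredColimits
import Mathlib.CategoryTheory.Abelian.GrothendieckAxioms.FunctorCategory
import Mathlib.CategoryTheory.Abelian.GrothendieckAxioms.Sheaf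
import Mathlib.CategoryTheory.Abelian.GrothendieckCategory.Basic

/-!
# Sheaves of modules over a small site form a Grothendieck abelian category
-/

set_option autoImplicit false

universe u

open CategoryTheory Limits

namespace Groth.Agent.H33.SheafMod

section Presheaf

variable {C : Type u} [SmallCategory C] (R₀ : Cᵒᵖ ⥤ RingCat.{u})

instance : ReflectsFiniteLimits (PresheafOfModules.toPresheaf.{u} R₀) where
  reflects _ _ _ := inferInstance

lemma hasExactColimitsOfShape_presheaf (K : Type u) [SmallCategory K] [IsFiltered K] :
    HasExactColimitsOfShape K (PresheafOfModules.{u} R₀) :=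
  HasExactColimitsOfShape.domain_of_functor K (PresheafOfModules.toPresheaf.{u} R₀)

end Presheaf

variable {C : Type u} [SmallCategory C] (J : GrothendieckTopology C) (R : Sheaf J RingCat.{u})

lemma hasExactColimitsOfShape (K : Type u) [SmallCategory K] [IsFiltered K] :
    HasExactColimitsOfShape K (SheafOfModules.{u} R) := by
  have := hasExactColimitsOfShape_presheaf R.obj K
  exact (PresheafOfModules.sheafificationAdjunction (𝟙 R.obj)).hasExactColimitsOfShape K

/-- The sheaf of modules associated to the free presheaf of modules on a representable. -/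
noncomputable def freeYoneda (X : C) : SheafOfModules.{u} R :=
  (PresheafOfModules.sheafification (𝟙 R.obj)).obj
    ((yoneda ⋙ PresheafOfModules.free R.obj).obj X)

lemma isSeparating : ObjectProperty.IsSeparating (.ofObj (freeYoneda J R)) := by
  intro F G f g hfg
  refine (SheafOfModules.forget R ⋙
    PresheafOfModules.restrictScalars (𝟙 R.obj)).map_injective
    (PresheafOfModules.freeYoneda.isSeparating R.obj _ _ ?_)
  rintro _ ⟨X⟩ a
  apply ((PresheafOfModules.sheafificationAdjunction (𝟙 R.obj)).homEquiv _ _).symm.injective
  rw [Adjunction.homEquiv_naturality_right_symm, Adjunction.homEquiv_naturality_right_symm]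
  exact hfg _ (ObjectProperty.ofObj_apply _ X)
      (((PresheafOfModules.sheafificationAdjunction (𝟙 R.obj)).homEquiv _ _).symm a)

lemma hasSeparator : HasSeparator (SheafOfModules.{u} R) :=
  ⟨_, (isSeparating J R).isSeparator_coproduct⟩

theorem isGrothendieckAbelian : IsGrothendieckAbelian.{u} (SheafOfModules.{u} R) where
  hasFilteredColimitsOfSize := ⟨fun K _ _ => inferInstance⟩
  ab5OfSize := ⟨fun K _ _ => hasExactColimitsOfShape J R K⟩
  hasSeparator := hasSeparator J R

end Groth.Agent.H33.SheafMod
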